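import Groth.Agent.SmoothReg.Field
import Groth.Agent.CotTLib.SmoothField
import Groth.Agent.NagataLib.Field
import Groth.Agent.NormCurve.Nagata
import Mathlib

/-!
# A uniform purely inseparable extension making normalizations of curves smooth
-/

universe u

set_option autoImplicit false
set_option linter.style.haveILetI false
set_option linter.unusedSectionVars false
set_option maxHeartbeats 1000000

open TensorProduct

namespace Groth.Agent.CurvInsep29

/-- A regular algebra of finite type over a perfect field is smooth. -/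
theorem smooth_of_regular_perfect (P B : Type u) [Field P] [PerfectField P] [CommRing B] [Algebra P B]
    [Algebra.FiniteType P B] [IsRegularRing B] : Algebra.Smooth P B :=
  CotTLib.smooth_of_isSmoothAt_maximal fun m _ =>
    (SmoothReg.isSmoothAt_iff_isRegularLocalRing m).2 (IsRegularRing.isRegularLocalRing_localization m)

section Level

variable (k : Type u) [Field k] (P : Type u) [Field P] [Algebra k P] [IsPurelyInseparable k P]
  (A : Type u) [CommRing A] [IsDomain A] [Algebra k A]

/-- The reduction of the perfect base change. -/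
abbrev AP : Type u := (P ⊗[k] A) ⧸ nilradical (P ⊗[k] A)

theorem exists_pow_eq_one_tmul (x : P ⊗[k] A) : ∃ n > 0, ∃ a : A, x ^ n = (1 : P) ⊗ₜ[k] a := by
  obtain ⟨n, hn, a, ha⟩ := IsPurelyInseparable.exists_pow_mem_range_tensorProduct (Algebra.TensorProduct.comm k P A x)
  refine ⟨n, hn, a, (Algebra.TensorProduct.comm k P A).injective ?_⟩
  rw [map_pow, ← ha]
  rfl

theorem isNilpotent_one_tmul_iff (a : A) : IsNilpotent ((1 : P) ⊗ₜ[k] a) ↔ a = 0 := by
  refine ⟨fun h => ?_, fun h => by rw [h, TensorProduct.tmul_zero]; exact IsNilpotent.zero⟩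
  have hinj : Function.Injective (Algebra.TensorProduct.includeRight : A →ₐ[k] P ⊗[k] A) :=
    Algebra.TensorProduct.includeRight_injective (algebraMap k P).injective
  exact ((IsNilpotent.map_iff hinj).1 h).eq_zero

instance isPrime_nilradical : (nilradical (P ⊗[k] A)).IsPrime := by
  refine ⟨fun h => ?_, fun {x y} hxy => ?_⟩
  · have h1 : IsNilpotent (1 : P ⊗[k] A) := mem_nilradical.1 (h ▸ Submodule.mem_top)
    rw [show (1 : P ⊗[k] A) = (1 : P) ⊗ₜ[k] (1 : A) from Algebra.TensorProduct.one_def] at h1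
    exact one_ne_zero ((isNilpotent_one_tmul_iff k P A 1).1 h1)
  · obtain ⟨n, hn, a, ha⟩ := exists_pow_eq_one_tmul k P A x
    obtain ⟨m, hm, b, hb⟩ := exists_pow_eq_one_tmul k P A y
    have hab : IsNilpotent ((x * y) ^ (n * m)) := (mem_nilradical.1 hxy).pow_of_pos (Nat.mul_pos hn hm).ne'
    rw [mul_pow, pow_mul, ha, pow_mul', hb, Algebra.TensorProduct.tmul_pow, Algebra.TensorProduct.tmul_pow,
      Algebra.TensorProduct.tmul_mul_tmul, one_pow, one_pow, one_mul, isNilpotent_one_tmul_iff] at hab
    rcases mul_eq_zero.1 hab with h | h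
    · refine Or.inl (mem_nilradical.2 ((IsNilpotent.pow_iff_pos hn.ne').1 ?_))
      rw [ha, isNilpotent_one_tmul_iff]
      exact eq_zero_of_pow_eq_zero h
    · refine Or.inr (mem_nilradical.2 ((IsNilpotent.pow_iff_pos hm.ne').1 ?_))
      rw [hb, isNilpotent_one_tmul_iff]
      exact eq_zero_of_pow_eq_zero h

/-- The original ring inside the reduction. -/
noncomputable def incl : A →+* AP k P A :=
  (Ideal.Quotient.mk _).comp (Algebra.TensorProduct.includeRight : A →ₐ[k] P ⊗[k] A).toRingHom

theorem incl_injective : Function.Injective (incl k P A) := by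
  refine (injective_iff_map_eq_zero _).2 fun a ha => ?_
  exact (isNilpotent_one_tmul_iff k P A a).1 (mem_nilradical.1 (Ideal.Quotient.eq_zero_iff_mem.1 ha))

theorem incl_isIntegral : (incl k P A).IsIntegral := fun z => by
  obtain ⟨x, rfl⟩ := Ideal.Quotient.mk_surjective z
  obtain ⟨m, hm, c, hc⟩ := exists_pow_eq_one_tmul k P A x
  refine ⟨Polynomial.X ^ m - Polynomial.C c, Polynomial.monic_X_pow_sub_C c hm.ne', ?_⟩
  rw [Polynomial.eval₂_sub, Polynomial.eval₂_X_pow, Polynomial.eval₂_C, ← map_pow, hc]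
  exact sub_self _

/-- The normalization over the perfect field is smooth. -/
theorem smooth_integralClosure [PerfectField P] [Algebra.FiniteType k A] [Ring.KrullDimLE 1 A]
    (K : Type u) [Field K] [Algebra (AP k P A) K] [IsFractionRing (AP k P A) K] [Algebra P K]
    [IsScalarTower P (AP k P A) K] :
    Algebra.Smooth P (integralClosure (AP k P A) K) ∧ Module.Finite (AP k P A) (integralClosure (AP k P A) K) := by
  haveI : Algebra.FiniteType P (AP k P A) :=
    Algebra.FiniteType.of_surjective (Ideal.Quotient.mkₐ P (nilradical (P ⊗[k] A))) Ideal.Quotient.mk_surjective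
  haveI : IsNoetherianRing (AP k P A) := Algebra.FiniteType.isNoetherianRing P _
  haveI : Ring.DimensionLEOne A := ⟨fun hp h => Ring.krullDimLE_one_iff_of_noZeroDivisors.1 ‹_› _ hp h⟩
  letI : Algebra A (AP k P A) := (incl k P A).toAlgebra
  haveI : Algebra.IsIntegral A (AP k P A) := ⟨incl_isIntegral k P A⟩
  haveI : Ring.DimensionLEOne (AP k P A) := Ring.DimensionLEOne.of_isIntegral A (AP k P A)
  haveI hfin : Module.Finite (AP k P A) (integralClosure (AP k P A) K) :=
    NormCurve.finite_integralClosure_of_nagata (NagataLib.isNagata_of_finiteType P _) K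
  refine ⟨?_, hfin⟩
  let B := integralClosure (AP k P A) K
  haveI : IsScalarTower P (AP k P A) B := inferInstance
  haveI : Algebra.FiniteType P B := Algebra.FiniteType.trans (S := AP k P A) inferInstance inferInstance
  haveI : IsNoetherianRing B := Algebra.FiniteType.isNoetherianRing P B
  haveI : IsIntegrallyClosed B := integralClosure.isIntegrallyClosedOfFiniteExtension K
  haveI : IsDedekindDomain B := { maximalOfPrime := fun h hp => Ring.DimensionLEOne.maximalOfPrime h hp }
  exact smooth_of_regular_perfect P B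

end Level

section Descend

variable {k : Type u} [Field k] {k' : Type u} [Field k'] [Algebra k k'] {P : Type u} [Field P] [Algebra k P]
  [Algebra k' P] [IsScalarTower k k' P] [IsPurelyInseparable k P]
  {A : Type u} [CommRing A] [IsDomain A] [Algebra k A]
  {R : Type u} [CommRing R] [IsDomain R] [Algebra k' R]

/-- The comparison map of the reductions. -/
noncomputable abbrev beta : k' ⊗[k] A →ₐ[k'] P ⊗[k] A :=
  Algebra.TensorProduct.map (Algebra.ofId k' P) (AlgHom.id k A)

theorem beta_injective : Function.Injective (beta (k := k) (k' := k') (P := P) (A := A)) :=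
  Module.Flat.rTensor_preserves_injective_linearMap ((Algebra.ofId k' P).restrictScalars k).toLinearMap
    (algebraMap k' P).injective

theorem beta_tmul (c : k') (a : A) : beta (P := P) (c ⊗ₜ[k] a) = algebraMap k' P c ⊗ₜ[k] a := rfl

theorem exists_gamma (π : k' ⊗[k] A →ₐ[k'] R) (hπ : Function.Surjective π)
    (hker : RingHom.ker π = nilradical (k' ⊗[k] A)) :
    ∃ γ : R →ₐ[k'] AP k P A, Function.Injective γ ∧ γ.toRingHom.IsIntegral ∧
      ∀ x, γ (π x) = Ideal.Quotient.mk (nilradical (P ⊗[k] A)) (beta x) := by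
  let mk' : P ⊗[k] A →ₐ[k'] AP k P A := (Ideal.Quotient.mkₐ P (nilradical (P ⊗[k] A))).restrictScalars k'
  have hkill : RingHom.ker π ≤ RingHom.ker (mk'.comp beta) := fun x hx => by
    rw [hker] at hx
    exact Ideal.Quotient.eq_zero_iff_mem.2 (mem_nilradical.2 ((mem_nilradical.1 hx).map beta))
  let γ : R →ₐ[k'] AP k P A := AlgHom.liftOfSurjective π hπ (mk'.comp beta) hkill
  have hγ : ∀ x, γ (π x) = Ideal.Quotient.mk (nilradical (P ⊗[k] A)) (beta x) := fun x =>
    DFunLike.congr_fun (AlgHom.liftOfSurjective_comp π hπ (mk'.comp beta) hkill) x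
  refine ⟨γ, (injective_iff_map_eq_zero _).2 fun r hr => ?_, fun z => ?_, hγ⟩
  · obtain ⟨x, rfl⟩ := hπ r
    rw [hγ, Ideal.Quotient.eq_zero_iff_mem, mem_nilradical, IsNilpotent.map_iff beta_injective] at hr
    rw [← RingHom.mem_ker, hker]
    exact mem_nilradical.2 hr
  · obtain ⟨x, rfl⟩ := Ideal.Quotient.mk_surjective z
    obtain ⟨m, hm, c, hc⟩ := exists_pow_eq_one_tmul k P A x
    refine ⟨Polynomial.X ^ m - Polynomial.C (π ((1 : k') ⊗ₜ[k] c)), Polynomial.monic_X_pow_sub_C _ hm.ne', ?_⟩
    rw [Polynomial.eval₂_sub, Polynomial.eval₂_X_pow, Polynomial.eval₂_C, ← map_pow, hc]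
    refine sub_eq_zero.2 ?_
    refine Eq.trans ?_ (hγ ((1 : k') ⊗ₜ[k] c)).symm
    rw [beta_tmul, map_one]

/-- The reduction over the perfect field is the base change of a reduction over a field of definition. -/
theorem delta_injective (π : k' ⊗[k] A →ₐ[k'] R) (hπ : Function.Surjective π)
    (hker : RingHom.ker π = nilradical (k' ⊗[k] A)) (γ : R →ₐ[k'] AP k P A)
    (hγ : ∀ x, γ (π x) = Ideal.Quotient.mk (nilradical (P ⊗[k] A)) (beta x))
    (G : Finset (P ⊗[k] A)) (hG : Ideal.span (G : Set (P ⊗[k] A)) = nilradical (P ⊗[k] A))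
    (hGdef : ∀ z ∈ G, z ∈ Set.range (beta (k := k) (k' := k') (P := P) (A := A))) :
    Function.Injective (Algebra.TensorProduct.lift (Algebra.ofId P (AP k P A)) γ fun _ _ => Commute.all _ _) := by
  let δ : P ⊗[k'] R →ₐ[P] AP k P A := Algebra.TensorProduct.lift (Algebra.ofId P _) γ fun _ _ => Commute.all _ _
  let inc : A →ₐ[k] k' ⊗[k] A := Algebra.TensorProduct.includeRight
  let ρ : A →ₐ[k] P ⊗[k'] R :=
    ((((Algebra.TensorProduct.includeRight : R →ₐ[k'] P ⊗[k'] R)).comp π).restrictScalars k).comp inc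
  let ε : P ⊗[k] A →ₐ[P] P ⊗[k'] R := Algebra.TensorProduct.lift (Algebra.ofId P _) ρ fun _ _ => Commute.all _ _
  have hεβ : ∀ x : k' ⊗[k] A, ε (beta x) = (1 : P) ⊗ₜ[k'] π x := by
    intro x
    induction x using TensorProduct.induction_on with
    | zero => simp
    | tmul c a =>
      rw [beta_tmul, Algebra.TensorProduct.lift_tmul]
      show algebraMap P (P ⊗[k'] R) (algebraMap k' P c) * ((1 : P) ⊗ₜ[k'] π ((1 : k') ⊗ₜ[k] a)) = _
      rw [show (c ⊗ₜ[k] a : k' ⊗[k] A) = c • ((1 : k') ⊗ₜ[k] a) by rw [TensorProduct.smul_tmul', smul_eq_mul, mul_one],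
        map_smul, TensorProduct.tmul_smul, ← IsScalarTower.algebraMap_apply k' P (P ⊗[k'] R), ← Algebra.smul_def]
    | add x y hx hy => rw [map_add, map_add, map_add, hx, hy, TensorProduct.tmul_add]
  have hεs : Function.Surjective ε := by
    intro z
    induction z using TensorProduct.induction_on with
    | zero => exact ⟨0, map_zero _⟩
    | tmul p r =>
      obtain ⟨x, rfl⟩ := hπ r
      refine ⟨p • beta x, ?_⟩
      rw [map_smul, hεβ, TensorProduct.smul_tmul', smul_eq_mul, mul_one]
    | add x y hx hy =>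
      obtain ⟨x', rfl⟩ := hx; obtain ⟨y', rfl⟩ := hy
      exact ⟨x' + y', map_add _ _ _⟩
  have hδε : ∀ x : P ⊗[k] A, δ (ε x) = Ideal.Quotient.mk (nilradical (P ⊗[k] A)) x := by
    intro x
    induction x using TensorProduct.induction_on with
    | zero => simp
    | tmul p a =>
      have h1 : (p ⊗ₜ[k] a : P ⊗[k] A) = p • beta ((1 : k') ⊗ₜ[k] a) := by
        rw [beta_tmul, map_one, TensorProduct.smul_tmul', smul_eq_mul, mul_one]
      rw [h1, map_smul, map_smul, hεβ, Algebra.TensorProduct.lift_tmul, map_one, one_mul, hγ]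
      rfl
    | add x y hx hy => rw [map_add, map_add, map_add, hx, hy]
  refine (injective_iff_map_eq_zero δ).2 fun z hz => ?_
  obtain ⟨x, rfl⟩ := hεs z
  rw [hδε, Ideal.Quotient.eq_zero_iff_mem, ← hG] at hz
  have hle : Ideal.span (G : Set (P ⊗[k] A)) ≤ RingHom.ker ε := Ideal.span_le.2 fun g hg => by
    obtain ⟨y, rfl⟩ := hGdef g hg
    rw [SetLike.mem_coe, RingHom.mem_ker, hεβ]
    have hy : y ∈ nilradical (k' ⊗[k] A) := mem_nilradical.2 ((IsNilpotent.map_iff beta_injective).1
      (mem_nilradical.1 (hG ▸ Ideal.subset_span hg)))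
    rw [← hker, RingHom.mem_ker] at hy
    rw [hy, TensorProduct.tmul_zero]
  exact hle hz

variable {k'' : Type u} [Field k''] {Q : Type u} [Field Q] [Algebra k'' Q]
  {R' : Type u} [CommRing R'] [IsDomain R'] [Algebra k'' R'] {S : Type u} [CommRing S] [IsDomain S] [Algebra k'' S]
  [Algebra Q S] [IsScalarTower k'' Q S]

/-- Descent of smoothness of an integral closure along a field of definition. -/
theorem smooth_of_comparison (γ : R' →ₐ[k''] S) (hγi : Function.Injective γ) (hint : γ.toRingHom.IsIntegral)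
    (hδ : Function.Injective (Algebra.TensorProduct.lift (Algebra.ofId Q S) γ fun _ _ => Commute.all _ _))
    (hδs : Function.Surjective (Algebra.TensorProduct.lift (Algebra.ofId Q S) γ fun _ _ => Commute.all _ _))
    (K : Type u) [Field K] [Algebra S K] [IsFractionRing S K] [Algebra k'' K]
    [Algebra Q K] [IsScalarTower Q S K] [IsScalarTower k'' Q K]
    (hsm : Algebra.Smooth Q (integralClosure S K)) (Bg : Finset (integralClosure S K))
    (hBg : Submodule.span S (Bg : Set (integralClosure S K)) = ⊤)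
    (hBdef : ∀ b ∈ Bg, ∃ c d : R', γ d ≠ 0 ∧ algebraMap S K (γ c) = (b : K) * algebraMap S K (γ d))
    (L : Type u) [Field L] [Algebra R' L] [IsFractionRing R' L] [Algebra k'' L] [IsScalarTower k'' R' L] :
    Algebra.Smooth k'' (integralClosure R' L) := by
  haveI : IsScalarTower k'' S K := IsScalarTower.of_algebraMap_eq fun c => by
    rw [IsScalarTower.algebraMap_apply k'' Q K, IsScalarTower.algebraMap_apply k'' Q S,
      ← IsScalarTower.algebraMap_apply Q S K]
  let δ : Q ⊗[k''] R' →ₐ[Q] S := Algebra.TensorProduct.lift (Algebra.ofId Q S) γ fun _ _ => Commute.all _ _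
  let j : R' →ₐ[k''] K := (IsScalarTower.toAlgHom k'' S K).comp γ
  have hj : Function.Injective j := (IsFractionRing.injective S K).comp hγi
  let e : L →ₐ[k''] K := IsFractionRing.liftAlgHom hj
  have he : ∀ r, e (algebraMap R' L r) = algebraMap S K (γ r) := fun r =>
    IsFractionRing.lift_algebraMap (hg := hj) r
  let Bn := integralClosure S K
  let B₀ := integralClosure R' L
  have hmem : ∀ b : B₀, e b.1 ∈ Bn := fun b => by
    obtain ⟨p, hp, hp'⟩ := b.2
    refine ⟨p.map γ.toRingHom, hp.map _, ?_⟩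
    rw [Polynomial.eval₂_map, show (algebraMap S K).comp γ.toRingHom = e.toRingHom.comp (algebraMap R' L) from
      RingHom.ext fun r => (he r).symm]
    show Polynomial.eval₂ (e.toRingHom.comp (algebraMap R' L)) (e.toRingHom b.1) p = 0
    rw [← Polynomial.hom_eval₂, hp', map_zero]
  let ν : B₀ →ₐ[k''] Bn :=
    { toFun := fun b => ⟨e b.1, hmem b⟩
      map_one' := Subtype.ext (map_one e)
      map_mul' := fun a b => Subtype.ext (map_mul e _ _)
      map_zero' := Subtype.ext (map_zero e)
      map_add' := fun a b => Subtype.ext (map_add e _ _)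
      commutes' := fun c => Subtype.ext (e.commutes c) }
  let μ : Q ⊗[k''] B₀ →ₐ[Q] Bn :=
    Algebra.TensorProduct.lift (Algebra.ofId Q Bn) ν fun _ _ => Commute.all _ _
  have hμval : ∀ (p : Q) (b : B₀), (μ (p ⊗ₜ[k''] b) : K) = algebraMap Q K p * e b.1 := fun p b => by
    rw [Algebra.TensorProduct.lift_tmul]; rfl
  have hrange : ∀ z : S, algebraMap S Bn z ∈ μ.range := by
    intro z
    obtain ⟨x, rfl⟩ := hδs z
    induction x using TensorProduct.induction_on with
    | zero => rw [map_zero, map_zero]; exact Subalgebra.zero_mem _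
    | tmul c r =>
      refine ⟨c ⊗ₜ[k''] ⟨algebraMap R' L r, isIntegral_algebraMap⟩, Subtype.ext ?_⟩
      refine (hμval _ _).trans ?_
      show _ = algebraMap S K (δ (c ⊗ₜ[k''] r))
      rw [he, Algebra.TensorProduct.lift_tmul, map_mul, IsScalarTower.algebraMap_apply Q S K]
      rfl
    | add x y hx hy => rw [map_add, map_add]; exact Subalgebra.add_mem _ hx hy
  have hsurj : Function.Surjective μ := by
    intro b
    have hb : b ∈ Submodule.span S (Bg : Set Bn) := hBg ▸ Submodule.mem_top
    show b ∈ μ.range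
    induction hb using Submodule.span_induction with
    | mem z hz =>
      obtain ⟨c, d, hd0, hcd⟩ := hBdef z hz
      let ℓ : L := algebraMap R' L c / algebraMap R' L d
      have hℓ : e ℓ = (z : K) := by
        rw [map_div₀, he, he, hcd, mul_div_assoc, div_self ((map_ne_zero_iff _ (IsFractionRing.injective S K)).2 hd0), mul_one]
      have hℓi : IsIntegral R' ℓ := by
        letI : Algebra R' S := γ.toRingHom.toAlgebra
        letI : Algebra R' K := j.toRingHom.toAlgebra
        haveI : IsScalarTower R' S K := IsScalarTower.of_algebraMap_eq fun _ => rfl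
        haveI : Algebra.IsIntegral R' S := ⟨hint⟩
        have h1 : IsIntegral R' (z : K) := isIntegral_trans (z : K) z.2
        let eR : L →ₐ[R'] K := { e.toRingHom with commutes' := he }
        rw [← hℓ] at h1
        exact (isIntegral_algHom_iff eR e.toRingHom.injective).1 h1
      refine ⟨(1 : Q) ⊗ₜ[k''] ⟨ℓ, hℓi⟩, Subtype.ext ?_⟩
      refine (hμval _ _).trans ?_
      rw [map_one, one_mul]
      exact hℓ
    | zero => exact Subalgebra.zero_mem _
    | add x y _ _ hx hy => exact Subalgebra.add_mem _ hx hy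
    | smul a x _ hx => rw [Algebra.smul_def]; exact Subalgebra.mul_mem _ (hrange a) hx
  let ΛR : Q ⊗[k''] R' →ₐ[Q] Q ⊗[k''] L :=
    Algebra.TensorProduct.map (AlgHom.id Q Q) (IsScalarTower.toAlgHom k'' R' L)
  let μL : Q ⊗[k''] L →ₐ[Q] K := Algebra.TensorProduct.lift (Algebra.ofId Q K) e fun _ _ => Commute.all _ _
  have hμLΛ : ∀ z, μL (ΛR z) = algebraMap S K (δ z) := by
    intro z
    induction z using TensorProduct.induction_on with
    | zero => simp
    | tmul p r =>
      rw [Algebra.TensorProduct.map_tmul, Algebra.TensorProduct.lift_tmul, Algebra.TensorProduct.lift_tmul, map_mul]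
      exact congrArg₂ (· * ·) (IsScalarTower.algebraMap_apply Q S K p) (he r)
    | add x y hx hy => simp only [map_add, hx, hy]
  have hclear : ∀ x : Q ⊗[k''] L, ∃ r : R', r ≠ 0 ∧ ∃ z, ΛR z = ((1 : Q) ⊗ₜ[k''] algebraMap R' L r) * x := by
    intro x
    induction x using TensorProduct.induction_on with
    | zero => exact ⟨1, one_ne_zero, 0, by rw [map_zero, mul_zero]⟩
    | tmul p l =>
      obtain ⟨a, b, hb, rfl⟩ := IsFractionRing.div_surjective (A := R') l
      refine ⟨b, nonZeroDivisors.ne_zero hb, p ⊗ₜ a, ?_⟩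
      rw [Algebra.TensorProduct.map_tmul, Algebra.TensorProduct.tmul_mul_tmul, one_mul, mul_div_cancel₀]
      · rfl
      · exact IsFractionRing.to_map_ne_zero_of_mem_nonZeroDivisors hb
    | add x y hx hy =>
      obtain ⟨r, hr, zx, hzx⟩ := hx; obtain ⟨r', hr', zy, hzy⟩ := hy
      refine ⟨r * r', mul_ne_zero hr hr', ((1 : Q) ⊗ₜ r') * zx + ((1 : Q) ⊗ₜ r) * zy, ?_⟩
      rw [map_add, map_mul, map_mul, hzx, hzy, mul_add, ← mul_assoc, ← mul_assoc]
      simp only [ΛR, Algebra.TensorProduct.map_tmul, map_one, Algebra.TensorProduct.tmul_mul_tmul, one_mul,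
        IsScalarTower.coe_toAlgHom', map_mul]
      rw [mul_comm (algebraMap R' L r') (algebraMap R' L r)]
  have hμL : Function.Injective μL := by
    refine (injective_iff_map_eq_zero _).2 fun x hx => ?_
    obtain ⟨r, hr, z, hz⟩ := hclear x
    have h0 : δ z = 0 := IsFractionRing.injective S K (by rw [← hμLΛ, hz, map_mul, hx, mul_zero, map_zero])
    rw [(map_eq_zero_iff _ hδ).1 h0, map_zero] at hz
    have hu : IsUnit ((1 : Q) ⊗ₜ[k''] algebraMap R' L r : Q ⊗[k''] L) :=
      (IsUnit.mk0 _ ((map_ne_zero_iff _ (IsFractionRing.injective R' L)).2 hr)).map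
        (Algebra.TensorProduct.includeRight : L →ₐ[k''] Q ⊗[k''] L)
    exact hu.mul_right_eq_zero.1 hz.symm
  have hinj : Function.Injective μ := by
    let v := (B₀.val.restrictScalars k'').toLinearMap
    have h1 : Function.Injective (LinearMap.lTensor Q v) :=
      Module.Flat.lTensor_preserves_injective_linearMap _ Subtype.coe_injective
    have h2 : ∀ z, (μ z : K) = μL (LinearMap.lTensor Q v z) := by
      intro z
      induction z using TensorProduct.induction_on with
      | zero => simp
      | tmul p b =>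
        rw [LinearMap.lTensor_tmul, Algebra.TensorProduct.lift_tmul]
        exact hμval p b
      | add x y hx hy => rw [map_add, map_add, map_add, ← hx, ← hy]; rfl
    intro z w h
    exact h1 (hμL (by rw [← h2, ← h2, h]))
  haveI : Algebra.Smooth Q Bn := hsm
  haveI : Algebra.Smooth Q (Q ⊗[k''] B₀) := Algebra.Smooth.of_equiv (AlgEquiv.ofBijective μ ⟨hinj, hsurj⟩).symm
  exact Algebra.Smooth.of_smooth_tensorProduct_of_faithfullyFlat Q

end Descend

/-- An intermediate field over which the normalization is smooth. -/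
theorem exists_finset (k : Type u) [Field k] (A : Type u) [CommRing A] [IsDomain A] [Algebra k A]
    [Algebra.FiniteType k A] [Ring.KrullDimLE 1 A] :
    ∃ S : Finset (perfectClosure k (AlgebraicClosure k)),
      ∀ (k' : IntermediateField k (perfectClosure k (AlgebraicClosure k))),
        (S : Set (perfectClosure k (AlgebraicClosure k))) ⊆ k' →
        ∀ (R : Type u) [CommRing R] [IsDomain R] [Algebra k' R] (π : k' ⊗[k] A →ₐ[k'] R),
          Function.Surjective π → RingHom.ker π = nilradical (k' ⊗[k] A) →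
          ∀ (L : Type u) [Field L] [Algebra R L] [IsFractionRing R L] [Algebra k' L] [IsScalarTower k' R L],
            Algebra.Smooth k' (integralClosure R L) := by
  classical
  let P := perfectClosure k (AlgebraicClosure k)
  haveI : PerfectField P := inferInstanceAs (PerfectField (perfectClosure k (AlgebraicClosure k)))
  obtain ⟨hsm, hfin⟩ := smooth_integralClosure k P A (FractionRing (AP k P A))
  haveI : IsNoetherianRing (P ⊗[k] A) := Algebra.FiniteType.isNoetherianRing P (P ⊗[k] A)
  obtain ⟨G, hG⟩ := (nilradical (P ⊗[k] A)).fg_of_isNoetherianRing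
  obtain ⟨Bg, hBg⟩ := hfin.fg_top
  choose nd hnd using fun b : integralClosure (AP k P A) (FractionRing (AP k P A)) =>
    IsLocalization.surj (nonZeroDivisors (AP k P A)) (b : FractionRing (AP k P A))
  choose lift hlift using fun z : AP k P A => Ideal.Quotient.mk_surjective z
  have hdef : ∀ x : P ⊗[k] A, ∃ s : Finset P, ∀ (k' : IntermediateField k P), (s : Set P) ⊆ k' →
      x ∈ Set.range (beta (k := k) (k' := k') (P := P) (A := A)) := by
    intro x
    induction x using TensorProduct.induction_on with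
    | zero => exact ⟨∅, fun k' _ => ⟨0, map_zero _⟩⟩
    | tmul c a => exact ⟨{c}, fun k' hk' => ⟨(⟨c, hk' (Finset.mem_singleton_self c)⟩ : k') ⊗ₜ a, rfl⟩⟩
    | add x y hx hy =>
      obtain ⟨s, hs⟩ := hx; obtain ⟨t, ht⟩ := hy
      refine ⟨s ∪ t, fun k' hk' => ?_⟩
      obtain ⟨x', rfl⟩ := hs k' (fun z hz => hk' (Finset.mem_union_left _ hz))
      obtain ⟨y', rfl⟩ := ht k' (fun z hz => hk' (Finset.mem_union_right _ hz))
      exact ⟨x' + y', map_add _ _ _⟩
  choose s hs using hdef
  refine ⟨G.biUnion s ∪ Bg.biUnion fun b => s (lift (nd b).1) ∪ s (lift (nd b).2), ?_⟩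
  intro k' hk' R _ _ _ π hπ hker L _ _ _ _ _
  have hGdef : ∀ z ∈ G, z ∈ Set.range (beta (k := k) (k' := k') (P := P) (A := A)) := fun z hz =>
    hs z k' fun y hy => hk' (Finset.mem_union_left _ (Finset.mem_biUnion.2 ⟨z, hz, hy⟩))
  obtain ⟨γ, hγi, hint, hγ⟩ := exists_gamma (P := P) π hπ hker
  have hδ := delta_injective π hπ hker γ hγ G hG hGdef
  have hδs : Function.Surjective
      (Algebra.TensorProduct.lift (Algebra.ofId P (AP k P A)) γ fun _ _ => Commute.all _ _) := by
    intro z
    obtain ⟨x, rfl⟩ := Ideal.Quotient.mk_surjective z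
    induction x using TensorProduct.induction_on with
    | zero => exact ⟨0, by simp⟩
    | tmul p a =>
      refine ⟨p ⊗ₜ[k'] π ((1 : k') ⊗ₜ[k] a), ?_⟩
      rw [Algebra.TensorProduct.lift_tmul, hγ, beta_tmul, map_one]
      show Ideal.Quotient.mk _ (algebraMap P (P ⊗[k] A) p) * _ = _
      rw [← map_mul, Algebra.TensorProduct.algebraMap_apply, Algebra.TensorProduct.tmul_mul_tmul]
      simp
    | add x y hx hy =>
      obtain ⟨u, hu⟩ := hx; obtain ⟨v, hv⟩ := hy
      exact ⟨u + v, by rw [map_add, map_add, hu, hv]⟩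
  refine smooth_of_comparison γ hγi hint hδ hδs (FractionRing (AP k P A)) hsm Bg hBg (fun b hb => ?_) L
  obtain ⟨c, hc⟩ := hs (lift (nd b).1) k' fun y hy =>
    hk' (Finset.mem_union_right _ (Finset.mem_biUnion.2 ⟨b, hb, Finset.mem_union_left _ hy⟩))
  obtain ⟨d, hd⟩ := hs (lift (nd b).2) k' fun y hy =>
    hk' (Finset.mem_union_right _ (Finset.mem_biUnion.2 ⟨b, hb, Finset.mem_union_right _ hy⟩))
  refine ⟨π c, π d, ?_, ?_⟩
  · rw [hγ, hd, hlift]
    exact nonZeroDivisors.ne_zero (nd b).2.2
  · rw [hγ, hγ, hc, hd, hlift, hlift]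
    exact (hnd b).symm

end Groth.Agent.CurvInsep29
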