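import Groth.Agent.CurvInsep29.Alg
import Groth.Agent.GeomField.Chart
import Groth.Agent.GeomField.Fibre
import Groth.Agent.H23.RedSub
import Groth.Agent.NormCurve.Branches

/-!
# Smoothness of the normalization of the reduction of a base change
-/

universe u

set_option autoImplicit false
set_option linter.style.haveILetI false
set_option linter.unusedSectionVars false
set_option backward.isDefEq.respectTransparency false
set_option backward.isDefEq.respectTransparency.types false
set_option maxHeartbeats 1000000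

open CategoryTheory CategoryTheory.Limits AlgebraicGeometry TopologicalSpace TensorProduct

noncomputable section

namespace Groth.Agent.CurvInsep29

variable {k : Type u} [Field k] {X : Scheme.{u}} [X.Over (Spec (CommRingCat.of k))]

theorem smooth_ι_comp_of_appLE {N : Scheme.{u}} {K : Type u} [CommRing K] (f : N ⟶ Spec (CommRingCat.of K))
    {W : N.Opens} (hW : IsAffineOpen W)
    (h : RingHom.Smooth ((Scheme.ΓSpecIso (CommRingCat.of K)).inv ≫ f.appLE ⊤ W le_top).hom) : Smooth (W.ι ≫ f) := by
  have e1 : hW.fromSpec ≫ f = Spec.map ((Scheme.ΓSpecIso (CommRingCat.of K)).inv ≫ f.appLE ⊤ W le_top) := by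
    rw [Spec.map_comp, ← IsAffineOpen.SpecMap_appLE_fromSpec f (isAffineOpen_top _) hW le_top,
      IsAffineOpen.fromSpec_top, Scheme.isoSpec_Spec_inv]
  rw [← hW.isoSpec_hom_fromSpec, Category.assoc, e1]
  haveI : Smooth (Spec.map ((Scheme.ΓSpecIso (CommRingCat.of K)).inv ≫ f.appLE ⊤ W le_top)) :=
    (HasRingHomProperty.Spec_iff (P := @Smooth)).2 h
  infer_instance

variable (k' : Type u) [Field k'] [Algebra k k'] (c : GeomField.Chart k X)

theorem bcEmb_snd : c.bcEmb k' ≫ Curv2.bcSnd k X k' =
    Spec.map (CommRingCat.ofHom (Algebra.TensorProduct.includeRight : k' →ₐ[k] c.R ⊗[k] k').toRingHom) := by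
  rw [GeomField.Chart.bcEmb, Category.assoc, Category.assoc, Category.assoc,
    pullbackRightPullbackFstIso_inv_snd_snd, pullback.congrHom_inv, pullback.lift_snd, Category.comp_id,
    pullbackSpecIso_inv_snd]
  rfl

/-- The chart of the base change as an open. -/
def chV : (Curv2.bc k X k').Opens := (c.bcEmb k') ''ᵁ ⊤

theorem isAffineOpen_chV : IsAffineOpen (chV k' c) := (isAffineOpen_top _).image_of_isOpenImmersion _

/-- Sections over the chart of the base change. -/
def chIso : CommRingCat.of (c.R ⊗[k] k') ≅ Γ(Curv2.bc k X k', chV k' c) :=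
  (Scheme.ΓSpecIso _).symm ≪≫ ((c.bcEmb k').appIso ⊤).symm

theorem chIso_compat :
    (Scheme.ΓSpecIso (CommRingCat.of k')).inv ≫ (Curv2.bcSnd k X k').appLE ⊤ (chV k' c) le_top =
      CommRingCat.ofHom (Algebra.TensorProduct.includeRight : k' →ₐ[k] c.R ⊗[k] k').toRingHom ≫ (chIso k' c).hom := by
  rw [chIso, Iso.trans_hom, ← Category.assoc, Iso.symm_hom, Iso.symm_hom, Iso.eq_comp_inv, Category.assoc,
    Scheme.Hom.appIso_hom']
  refine Eq.trans (congrArg (_ ≫ ·) (Scheme.Hom.appLE_comp_appLE (c.bcEmb k') (Curv2.bcSnd k X k') ⊤ (chV k' c) ⊤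
    le_top (Scheme.Hom.preimage_image_eq _ _).ge)) ?_
  rw [Scheme.ΓSpecIso_inv_naturality]
  congr 1
  rw [Scheme.Hom.appTop, Scheme.Hom.app_eq_appLE]
  congr 1
  exact bcEmb_snd k' c

theorem chV_nonempty [Nontrivial c.R] : (chV k' c : Set (Curv2.bc k X k')).Nonempty := by
  haveI : Nontrivial (c.R ⊗[k] k') :=
    (Algebra.TensorProduct.includeLeft_injective (S := k) (A := c.R) (algebraMap k k').injective).nontrivial
  obtain ⟨Q⟩ := (inferInstance : Nonempty (PrimeSpectrum (c.R ⊗[k] k')))
  exact ⟨c.bcEmb k' Q, Q, trivial, rfl⟩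

/-- The preimage of the chart in the reduction. -/
def chU : (Curv2.bc k X k').nilradical.subscheme.Opens := (Curv2.bc k X k').nilradical.subschemeι ⁻¹ᵁ chV k' c

theorem isAffineOpen_chU : IsAffineOpen (chU k' c) := (isAffineOpen_chV k' c).preimage _

theorem chU_nonempty [Nontrivial c.R] : (chU k' c : Set (Curv2.bc k X k').nilradical.subscheme).Nonempty := by
  obtain ⟨z, hz⟩ := chV_nonempty k' c
  obtain ⟨w, rfl⟩ : z ∈ Set.range (Curv2.bc k X k').nilradical.subschemeι := by
    rw [Scheme.IdealSheafData.range_subschemeι]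
    exact Set.mem_univ z
  exact ⟨w, hz⟩

/-- The map to the sections on the reduction. -/
def chπ : k' ⊗[k] c.R →+* Γ((Curv2.bc k X k').nilradical.subscheme, chU k' c) :=
  ((Curv2.bc k X k').nilradical.subschemeι.app (chV k' c)).hom.comp
    ((chIso k' c).hom.hom.comp (Algebra.TensorProduct.comm k k' c.R).toRingEquiv.toRingHom)

theorem chπ_surjective : Function.Surjective (chπ k' c) :=
  ((Curv2.bc k X k').nilradical.subschemeι_app_surjective ⟨_, isAffineOpen_chV k' c⟩).comp
    ((chIso k' c).commRingCatIsoToRingEquiv.surjective.comp (Algebra.TensorProduct.comm k k' c.R).surjective)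

theorem ker_chπ : RingHom.ker (chπ k' c) = nilradical (k' ⊗[k] c.R) := by
  let e := (Algebra.TensorProduct.comm k k' c.R).toRingEquiv.trans (chIso k' c).commRingCatIsoToRingEquiv
  have h := (Curv2.bc k X k').nilradical.ker_subschemeι_app ⟨_, isAffineOpen_chV k' c⟩
  have h2 : (Curv2.bc k X k').nilradical.ideal ⟨_, isAffineOpen_chV k' c⟩ = nilradical Γ(Curv2.bc k X k', chV k' c) := by
    simp [Scheme.nilradical, nilradical]
  ext z
  rw [RingHom.mem_ker, mem_nilradical, ← IsNilpotent.map_iff (f := e) e.injective, ← mem_nilradical, ← h2, ← h,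
    RingHom.mem_ker]
  rfl

theorem chπ_tmul_one (a : k') :
    chπ k' c (a ⊗ₜ[k] 1) = ((Scheme.ΓSpecIso (CommRingCat.of k')).inv ≫
      ((Curv2.bc k X k').nilradical.subschemeι ≫ Curv2.bcSnd k X k').appLE ⊤ (chU k' c) le_top).hom a := by
  rw [← Scheme.Hom.appLE_comp_appLE _ _ ⊤ (chV k' c) (chU k' c) le_top le_rfl, ← Category.assoc, chIso_compat,
    show (Curv2.bc k X k').nilradical.subschemeι.appLE (chV k' c) (chU k' c) le_rfl =
      (Curv2.bc k X k').nilradical.subschemeι.app (chV k' c) from (Scheme.Hom.app_eq_appLE _).symm]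
  rfl

/-- Smoothness of the normalization over a chart, from the algebra statement. -/
theorem smooth_over_chart [IsIntegral (Curv2.bc k X k').nilradical.subscheme]
    [QuasiCompact ((Curv2.bc k X k').nilradical.subscheme.fromSpecStalk
      (genericPoint (Curv2.bc k X k').nilradical.subscheme))]
    [QuasiSeparated ((Curv2.bc k X k').nilradical.subscheme.fromSpecStalk
      (genericPoint (Curv2.bc k X k').nilradical.subscheme))]
    [IsDomain c.R]
    (halg : ∀ (R : Type u) [CommRing R] [IsDomain R] [Algebra k' R] (π : k' ⊗[k] c.R →ₐ[k'] R),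
      Function.Surjective π → RingHom.ker π = nilradical (k' ⊗[k] c.R) →
      ∀ (L : Type u) [Field L] [Algebra R L] [IsFractionRing R L] [Algebra k' L] [IsScalarTower k' R L],
        Algebra.Smooth k' (integralClosure R L)) :
    Smooth ((Curv2.normalizationι (Curv2.bc k X k').nilradical.subscheme ⁻¹ᵁ chU k' c).ι ≫
      Curv2.normalizationι (Curv2.bc k X k').nilradical.subscheme ≫
        (Curv2.bc k X k').nilradical.subschemeι ≫ Curv2.bcSnd k X k') := by
  let Z := (Curv2.bc k X k').nilradical.subscheme
  let g : Z ⟶ Spec (CommRingCat.of k') := (Curv2.bc k X k').nilradical.subschemeι ≫ Curv2.bcSnd k X k'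
  let ν := Curv2.normalizationι Z
  haveI : IsAffineHom ν := inferInstanceAs (IsAffineHom (Z.fromSpecStalk (genericPoint Z)).fromNormalization)
  have hne := chU_nonempty k' c
  haveI : Nonempty (chU k' c) := hne.to_subtype
  let R := Γ(Z, chU k' c)
  letI : Algebra k' R :=
    ((Scheme.ΓSpecIso (CommRingCat.of k')).inv ≫ g.appLE ⊤ (chU k' c) le_top).hom.toAlgebra
  let π : k' ⊗[k] c.R →ₐ[k'] R := { chπ k' c with commutes' := fun a => chπ_tmul_one k' c a }
  let L := FractionRing R
  haveI := halg R π (chπ_surjective k' c) (ker_chπ k' c) L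
  obtain ⟨e, he⟩ := NormCurve.exists_normalizationEquiv Z (isAffineOpen_chU k' c) hne L
  refine smooth_ι_comp_of_appLE _ ((isAffineOpen_chU k' c).preimage ν) ?_
  have happ : (Scheme.ΓSpecIso (CommRingCat.of k')).inv ≫ (ν ≫ g).appLE ⊤ (ν ⁻¹ᵁ chU k' c) le_top =
      CommRingCat.ofHom (algebraMap k' (integralClosure R L)) ≫ CommRingCat.ofHom e.symm.toRingHom := by
    rw [← Scheme.Hom.appLE_comp_appLE _ _ ⊤ (chU k' c) (ν ⁻¹ᵁ chU k' c) le_top le_rfl,
      show ν.appLE (chU k' c) (ν ⁻¹ᵁ chU k' c) le_rfl = ν.app (chU k' c) from (Scheme.Hom.app_eq_appLE _).symm]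
    refine CommRingCat.hom_ext (RingHom.ext fun a => e.injective ?_)
    show e ((ν.app (chU k' c)).hom (algebraMap k' R a)) = e (e.symm (algebraMap k' (integralClosure R L) a))
    rw [he, e.apply_symm_apply]
    exact (IsScalarTower.algebraMap_apply k' R (integralClosure R L) a).symm
  rw [happ]
  show (e.symm.toRingHom.comp (algebraMap k' (integralClosure R L))).Smooth
  exact (RingHom.Smooth.respectsIso.1 _ e.symm) (RingHom.smooth_algebraMap.2 inferInstance)

/-- The normalization of the reduction becomes smooth after a finite purely inseparable extension. -/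
theorem exists_ext (k : Type u) [Field k] (X : Scheme.{u}) [X.Over (Spec (CommRingCat.of k))] [IsIntegral X]
    [LocallyOfFiniteType (X ↘ Spec (CommRingCat.of k))] [QuasiCompact (X ↘ Spec (CommRingCat.of k))]
    (hdim : topologicalKrullDim X ≤ 1) :
    ∃ (k' : Type u) (_ : Field k') (_ : Algebra k k'), FiniteDimensional k k' ∧ IsPurelyInseparable k k' ∧
      ∃ (_ : IsIntegral (Curv2.bc k X k').nilradical.subscheme)
        (_ : QuasiCompact ((Curv2.bc k X k').nilradical.subscheme.fromSpecStalk
              (genericPoint (Curv2.bc k X k').nilradical.subscheme)))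
        (_ : QuasiSeparated ((Curv2.bc k X k').nilradical.subscheme.fromSpecStalk
              (genericPoint (Curv2.bc k X k').nilradical.subscheme))),
        Smooth (Curv2.normalizationι (Curv2.bc k X k').nilradical.subscheme ≫
          (Curv2.bc k X k').nilradical.subschemeι ≫ Curv2.bcSnd k X k') := by
  classical
  haveI : CompactSpace X := QuasiCompact.compactSpace_of_compactSpace (X ↘ Spec (CommRingCat.of k))
  choose ch P hP using fun x : X => GeomField.exists_chart (k := k) x
  have hdom : ∀ x, IsDomain (ch x).R := fun x => by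
    haveI : Nonempty (Spec (CommRingCat.of (ch x).R)) := ⟨P x⟩
    haveI : IsIntegral (Spec (CommRingCat.of (ch x).R)) := isIntegral_of_isOpenImmersion (ch x).emb
    exact (affine_isIntegral_iff (CommRingCat.of (ch x).R)).1 inferInstance
  have hft : ∀ x, Algebra.FiniteType k (ch x).R := fun x => by
    haveI : LocallyOfFiniteType ((ch x).emb ≫ (X ↘ Spec (CommRingCat.of k))) := inferInstance
    rw [(ch x).over_eq] at this
    exact RingHom.finiteType_algebraMap.1 ((HasRingHomProperty.Spec_iff (P := @LocallyOfFiniteType)).1 this)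
  have hd : ∀ x, Ring.KrullDimLE 1 (ch x).R := fun x => by
    have h := ((ch x).emb.isOpenEmbedding.isInducing.topologicalKrullDim_le).trans hdim
    rw [show topologicalKrullDim (Spec (CommRingCat.of (ch x).R)) = ringKrullDim (ch x).R from
      PrimeSpectrum.topologicalKrullDim_eq_ringKrullDim (ch x).R] at h
    exact Ring.krullDimLE_iff.2 (by simpa using h)
  choose S hS using fun x => exists_finset k (ch x).R
  obtain ⟨t, ht⟩ := isCompact_univ.elim_finite_subcover (fun x => Set.range (ch x).emb)
    (fun x => (ch x).emb.isOpenEmbedding.isOpen_range) (fun y _ => Set.mem_iUnion.2 ⟨y, P y, hP y⟩)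
  let K := IntermediateField.adjoin k ((t.biUnion S : Finset _) : Set (perfectClosure k (AlgebraicClosure k)))
  haveI : FiniteDimensional k K :=
    IntermediateField.finiteDimensional_adjoin fun x _ => Algebra.IsIntegral.isIntegral x
  haveI : IsPurelyInseparable k K := IsPurelyInseparable.tower_bot k K (perfectClosure k (AlgebraicClosure k))
  haveI : IrreducibleSpace (Curv2.bc k X K) := GeomField.irreducibleSpace_bc_of_purelyInseparable K
  haveI hred : IsReduced (Curv2.bc k X K).nilradical.subscheme := H23.RedSub.isReduced_nilradical _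
  have hrange : Function.Surjective (Curv2.bc k X K).nilradical.subschemeι := Set.range_eq_univ.1 (by
    rw [Scheme.IdealSheafData.range_subschemeι]; rfl)
  haveI : IrreducibleSpace (Curv2.bc k X K).nilradical.subscheme := by
    let h : (Curv2.bc k X K).nilradical.subscheme ≃ₜ Curv2.bc k X K :=
      (Curv2.bc k X K).nilradical.subschemeι.isEmbedding.toHomeomorphOfSurjective hrange
    haveI : Nonempty (Curv2.bc k X K).nilradical.subscheme := h.toEquiv.nonempty
    exact h.isOpenEmbedding.irreducibleSpace
  haveI hint : IsIntegral (Curv2.bc k X K).nilradical.subscheme := isIntegral_of_irreducibleSpace_of_isReduced _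
  haveI : LocallyOfFiniteType (Curv2.bcSnd k X K) := inferInstance
  haveI : IsLocallyNoetherian (Curv2.bc k X K) := LocallyOfFiniteType.isLocallyNoetherian (Curv2.bcSnd k X K)
  haveI : IsLocallyNoetherian (Curv2.bc k X K).nilradical.subscheme :=
    LocallyOfFiniteType.isLocallyNoetherian (Curv2.bc k X K).nilradical.subschemeι
  refine ⟨K, inferInstance, inferInstance, inferInstance, inferInstance, hint,
    inferInstance, inferInstance, ?_⟩
  let ν := Curv2.normalizationι (Curv2.bc k X K).nilradical.subscheme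
  refine (IsZariskiLocalAtSource.iff_of_iSup_eq_top (P := @Smooth)
    (fun x : t => ν ⁻¹ᵁ chU K (ch x.1)) ?_).2 fun x => ?_
  · refine eq_top_iff.2 fun z _ => ?_
    obtain ⟨x, hx, hz⟩ := Set.mem_iUnion₂.1 (ht (Set.mem_univ
      (Curv2.bcFst k X K ((Curv2.bc k X K).nilradical.subschemeι (ν z)))))
    refine Opens.mem_iSup.2 ⟨⟨x, hx⟩, ?_⟩
    obtain ⟨Q, hQ⟩ := hz
    obtain ⟨Q', hQ'⟩ := (ch x).exists_bcEmb_eq K Q _ hQ.symm
    exact ⟨Q', trivial, hQ'⟩
  · haveI := hdom x.1
    exact smooth_over_chart K (ch x.1)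
      (hS x.1 K fun y hy => IntermediateField.subset_adjoin k _ (Finset.mem_biUnion.2 ⟨x.1, x.2, hy⟩))

end Groth.Agent.CurvInsep29
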